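import Groth.Agent.Lib.CurveMult.SeparablePoint
import Groth.Agent.Lib.FunFld.LinSeries
import Groth.Agent.Lib.FunFld.Conseq
import Groth.Agent.Lib.GenusZeroFam2.Coarse
import Groth.Agent.Lib.EssDim.ConicCurve
import Groth.Agent.Lib.RamInsep9.Basic

/-!
# A curve of genus zero splits over a separable extension of degree at most two
-/

set_option autoImplicit false
set_option linter.style.haveILetI false
set_option backward.isDefEq.respectTransparency false

universe u

open CategoryTheory CategoryTheory.Limits AlgebraicGeometry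
open GrothLib.CurveRR GrothLib.CurveMult

noncomputable section

namespace GrothLib.GenusZeroSplit28

/-- Three independent functions of a degree-two system do not come from a proper subfield. -/
theorem false_of_sections_from_below {k K L' : Type u} [Field k] [Field K] [Algebra k K] [Field L'] [Algebra k L']
    [Algebra L' K] [IsScalarTower k L' K] [FiniteDimensional L' K] (hL : _root_.FunFld.IsFunctionField k L')
    (h2 : 2 ≤ Module.finrank L' K) {D : _root_.FunFld.Divisor k K}
    (hD : D.deg ≤ 2) (φ : Fin 3 → L') (hind : LinearIndependent k φ)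
    (hmem : ∀ i, algebraMap L' K (φ i) ∈ _root_.FunFld.L D) : False := by
  classical
  have hfg : GrothLib.FunFld.IsFG k L' := hL.1
  have hfgK : GrothLib.FunFld.IsFG k K := GrothLib.FunFld.isFG_extension (K := L') hfg
  set A := _root_.FunFld.mapDiv k φ with hA
  have hφA : ∀ i, φ i ∈ _root_.FunFld.L A := fun i =>
    (GrothLib.FunFld.mem_L_iff_ord (hind.ne_zero i)).2 fun P => by
      rw [hA, GrothLib.FunFld.mapDiv_apply hfg]
      have := Finset.inf'_le (fun j => P.ord (φ j)) (Finset.mem_univ i)
      omega
  haveI := GrothLib.FunFld.IsFG.finite_L hfg A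
  have hellA : 3 ≤ _root_.FunFld.ell A := by
    have hi : LinearIndependent k (fun i => (⟨φ i, hφA i⟩ : _root_.FunFld.L A)) :=
      LinearIndependent.of_comp (_root_.FunFld.L A).subtype hind
    simpa [_root_.FunFld.ell] using hi.fintype_card_le_finrank
  have hcon : _root_.FunFld.conorm K A ≤ D := fun Q => by
    rw [hA, ← GrothLib.FunFld.mapDiv_algebraMap hfg, GrothLib.FunFld.mapDiv_apply hfgK, neg_le]
    refine Finset.le_inf' _ _ fun i _ => ?_
    have := (GrothLib.FunFld.mem_L_iff_ord (x := algebraMap L' K (φ i))
      (by simpa using hind.ne_zero i)).1 (hmem i) Q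
    omega
  have hdA : 0 ≤ A.deg := by
    by_contra hlt
    have := GrothLib.FunFld.IsFG.ell_eq_zero_of_deg_neg hfg (D := A) (by omega)
    omega
  have hdA' : A.deg ≤ 1 := by
    have h1 := GrothLib.FunFld.deg_nonneg (sub_nonneg.2 hcon)
    rw [GrothLib.FunFld.deg_sub, GrothLib.FunFld.deg_conorm hfg] at h1
    have h2' : (2 : ℤ) ≤ Module.finrank L' K := by exact_mod_cast h2
    nlinarith
  have := GrothLib.FunFld.ell_le_deg_succ hL A hdA
  omega

variable (k : Type u) [Field k] {X : Scheme.{u}} [IsIntegral X] [RegCurve X]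
  [X.Over (Spec (CommRingCat.of k))] [IsProper (X ↘ Spec (CommRingCat.of k))]
  [Smooth (X ↘ Spec (CommRingCat.of k))]

include k in
/-- A smooth curve of genus zero has a separable place of degree at most two. -/
theorem exists_separable_place
    (h0 : Module.finrank k (Coh.HH X (Coh.structureModule X) 0) = 1) (hg : Curv2.genus k X = 0) :
    ∃ Q : _root_.FunFld.Place k X.functionField, (Q.deg : ℤ) ≤ 2 ∧
      Algebra.IsSeparable k (IsLocalRing.ResidueField Q.O) := by
  classical
  haveI := Euler.isNoetherian_of_proper (X := X) k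
  have hK := isFunctionField k h0
  have hfg : GrothLib.FunFld.IsFG k X.functionField := hK.1
  have hg0 : _root_.FunFld.genus k X.functionField = 0 := (CurveRR.genus_eq k h0).symm.trans hg
  obtain ⟨C₀, hC₀⟩ := GrothLib.FunFld.exists_isCanonical hK
  have hl := GrothLib.FunFld.ell_canonical hK hC₀
  have hd0 : (-C₀).deg = 2 := by
    rw [GrothLib.FunFld.deg_neg, hl.2, hg0]; rfl
  have hl0 : _root_.FunFld.ell (-C₀) = 3 := by
    have := GrothLib.FunFld.ell_eq_of_deg_ge hK (D := -C₀) (by rw [hd0, hg0]; norm_num)
    rw [hd0, hg0] at this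
    omega
  obtain ⟨w, hw0, -, hC⟩ := GrothLib.FunFld.IsFG.exists_of_ell_pos hfg (D := -C₀) (by omega)
  set C := -C₀ + _root_.FunFld.div k w with hCdef
  have hCdeg : C.deg = 2 := by
    rw [hCdef, GrothLib.FunFld.deg_add, GrothLib.FunFld.IsFG.deg_div hfg, hd0, add_zero]
  have hCell : _root_.FunFld.ell C = 3 := by
    rw [GrothLib.FunFld.IsFG.ell_add_div hfg _ hw0, hl0]
  by_cases hperf : PerfectField k
  · obtain ⟨P, hP⟩ := GrothLib.FunFld.exists_single_le hC (fun h => by
      rw [h] at hCdeg; simp at hCdeg)
    refine ⟨P, ?_, ?_⟩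
    · have h1 := GrothLib.FunFld.deg_nonneg (sub_nonneg.2 hP)
      rw [GrothLib.FunFld.deg_sub, GrothLib.FunFld.deg_single, one_mul, hCdeg] at h1
      omega
    · have hfin : @Module.Finite k (IsLocalRing.ResidueField P.O) _ _ Algebra.toModule :=
        GrothLib.FunFld.IsFG.finite_residueField hfg P
      haveI := hfin
      haveI : Algebra.IsAlgebraic k (IsLocalRing.ResidueField P.O) := Algebra.IsAlgebraic.of_finite _ _
      exact Algebra.IsAlgebraic.isSeparable_of_perfectField
  haveI : Infinite k := not_finite_iff_infinite.1 fun h => hperf inferInstance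
  obtain ⟨p, hpc⟩ : ∃ p : ℕ, CharP k p := CharP.exists k
  haveI := hpc
  rcases CharP.char_is_prime_or_zero k p with hp | rfl
  swap
  · haveI := CharP.charP_to_charZero k
    exact (hperf inferInstance).elim
  haveI : Fact p.Prime := ⟨hp⟩
  haveI : CharP X.functionField p := charP_of_injective_algebraMap (algebraMap k X.functionField).injective p
  obtain ⟨z, hzt, hz⟩ := InsepTwistGen.exists_separating (k := k) (X := X)
  haveI := hz
  by_cases hex : ∃ x ∈ _root_.FunFld.L C, Transcendental k x ∧
      Algebra.IsSeparable (IntermediateField.adjoin k ({x} : Set X.functionField)) X.functionField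
  · obtain ⟨x, hxC, hxt, hxs⟩ := hex
    obtain ⟨Q, hQ, hQs⟩ := SepPointFF.exists_separable_place hfg hC hxC hxt hxs
    exact ⟨Q, hQ.trans_eq hCdeg, hQs⟩
  exfalso
  set K' := GrothLib.FunFld.powField k X.functionField p
  have hsub : ∀ x ∈ _root_.FunFld.L C, x ∈ K' := fun x hxC => by
    by_cases hxt : Transcendental k x
    · refine (SepPointFF.mem_powField_or_isSeparable p hfg z hxt).resolve_right fun h => hex ⟨x, hxC, hxt, h⟩
    · obtain ⟨c, rfl⟩ := hK.2 x (not_not.1 hxt)
      exact K'.algebraMap_mem c
  have hzp : z ^ p ∈ K' := IntermediateField.subset_adjoin _ _ ⟨z, rfl⟩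
  obtain ⟨hK', hfinK'⟩ := GrothLib.FunFld.isFunctionField_intermediateField hK K' ⟨_, hzp, hzt.pow hp.pos⟩
  haveI := hfinK'
  have h2 : 2 ≤ Module.finrank K' X.functionField := by
    have hpos : 0 < Module.finrank K' X.functionField := Module.finrank_pos
    by_contra hlt
    have h1 : Module.finrank K' X.functionField = 1 := by omega
    obtain ⟨c, hc⟩ := (finrank_eq_one_iff_of_nonzero' (1 : X.functionField) one_ne_zero).1 h1 z
    have hz' : z ∈ K' := by
      rw [← hc, Algebra.smul_def, mul_one]
      exact c.2
    exact GrothLib.FunFld.D_ne_zero_of_isSeparable hfg hz (GrothLib.FunFld.D_eq_zero_of_mem_powField p hz')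
  haveI := GrothLib.FunFld.IsFG.finite_L hfg C
  let b : Fin 3 → _root_.FunFld.L C := fun i =>
    Module.finBasis k (_root_.FunFld.L C) (Fin.cast hCell.symm i)
  let φ : Fin 3 → K' := fun i => ⟨(b i).1, hsub _ (b i).2⟩
  have hind : LinearIndependent k φ := by
    refine LinearIndependent.of_comp (IntermediateField.val K').toLinearMap ?_
    have : (⇑(IntermediateField.val K').toLinearMap ∘ φ) = ⇑(_root_.FunFld.L C).subtype ∘ b := rfl
    rw [this]
    exact ((Module.finBasis k (_root_.FunFld.L C)).linearIndependent.comp _ (Fin.cast_injective _)).map'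
      _ (Submodule.ker_subtype _)
  exact false_of_sections_from_below hK' h2 (D := C) hCdeg.le φ hind fun i => (b i).2

attribute [local instance] Curv2.resAlgebra

include k in
/-- A smooth curve of genus zero has a closed point of degree at most two with separable residue field. -/
theorem exists_separable_closedPoint
    (h0 : Module.finrank k (Coh.HH X (Coh.structureModule X) 0) = 1) (hg : Curv2.genus k X = 0) :
    ∃ x : X, Algebra.IsSeparable k (X.residueField x) ∧
      Module.finrank k (X.residueField x) ≤ 2 ∧ FiniteDimensional k (X.residueField x) := by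
  obtain ⟨Q, hQ, hQs⟩ := exists_separable_place k h0 hg
  obtain ⟨x, rfl⟩ := place_surjective (k := k) Q
  obtain ⟨e⟩ := nonempty_residueField_algEquiv k x
  haveI := hQs
  have hfg : GrothLib.FunFld.IsFG k X.functionField := (isFunctionField k h0).1
  have hfin : @Module.Finite k (IsLocalRing.ResidueField (place k x).O) _ _ Algebra.toModule :=
    GrothLib.FunFld.IsFG.finite_residueField hfg (place k x)
  haveI := hfin
  refine ⟨x.1, Algebra.IsSeparable.of_algHom k _ e.toAlgHom, ?_, Module.Finite.equiv e.toLinearEquiv.symm⟩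
  rw [e.toLinearEquiv.finrank_eq]
  have hdeg : (place k x).deg = Module.finrank k (IsLocalRing.ResidueField (place k x).O) := rfl
  omega

end GrothLib.GenusZeroSplit28
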